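import Groth.Agent.FlatMorOne.FlatStratAlgebra
import Groth.Agent.EGA43Flat.FreeMod

/-! Over a ring with prime nilradical, the flattening locus of a finitely presented module is cut out
generically by a finitely generated nil ideal. -/

set_option autoImplicit false
set_option linter.style.haveILetI false
universe u

open TensorProduct Groth.FlatMorOne

namespace Groth.EGA43Strat

attribute [local instance] Algebra.TensorProduct.rightAlgebra

/-- Generic freeness of a finite module over an algebra of finite type modulo a prime. -/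
theorem exists_notMem_free {A : Type u} [CommRing A] (M : Type u) [AddCommGroup M] [Module A M]
    (B : Type u) [CommRing B] [Algebra A B] [Algebra.FiniteType A B]
    [Module B M] [IsScalarTower A B M] [Module.Finite B M] (I : Ideal A) (hI : I.IsRadical)
    (hne : I ≠ ⊤) :
    ∃ a ∉ I, ∀ (K : Type u) [CommRing K] [Algebra A K], I.map (algebraMap A K) = ⊥ →
      IsUnit (algebraMap A K a) → Module.Free K (K ⊗[A] M) := by
  classical
  let R := A ⧸ I
  have : IsReduced R := (Ideal.isRadical_iff_quotient_reduced I).mp hI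
  have : Nontrivial R := Ideal.Quotient.nontrivial_iff.mpr hne
  let S := R ⊗[A] B
  obtain ⟨n, φ, hφ⟩ := Algebra.FiniteType.iff_quotient_mvPolynomial''.mp
    (inferInstance : Algebra.FiniteType R S)
  let P := MvPolynomial (Fin n) R
  let N := S ⊗[B] M
  let _ : Algebra P S := φ.toRingHom.toAlgebra
  have : IsScalarTower R P S := IsScalarTower.of_algebraMap_eq fun r => (φ.commutes r).symm
  have : Module.Finite P S := Module.Finite.of_surjective (Algebra.linearMap P S) hφ
  have : Module.Finite P N := Module.Finite.trans S N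
  obtain ⟨f, hf, -, hfree, -⟩ := exists_good_mvPolynomial n N (1 : R) one_ne_zero
  obtain ⟨a, rfl⟩ := Ideal.Quotient.mk_surjective f
  refine ⟨a, fun h => hf (Ideal.Quotient.eq_zero_iff_mem.mpr h), fun K _ _ hIK hu => ?_⟩
  let Rf := Localization.Away (Ideal.Quotient.mk I a)
  let e : N ≃ₗ[R] R ⊗[A] M := Algebra.IsPushout.cancelBaseChange A R B S M
  have hfreeRf : Module.Free Rf (Rf ⊗[R] (R ⊗[A] M)) := by
    have := hfree.free_localized
    exact Module.Free.of_equiv
      ((LocalizedModule.equivTensorProduct (Submonoid.powers _) N) ≪≫ₗ LinearEquiv.baseChange R Rf _ _ e)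
  let ρ : R →+* K := Ideal.Quotient.lift I (algebraMap A K) fun x hx => by
    have h := Ideal.mem_map_of_mem (algebraMap A K) hx
    rw [hIK] at h
    exact h
  have hu' : IsUnit (ρ (Ideal.Quotient.mk I a)) := hu
  let _ : Algebra Rf K := (IsLocalization.Away.lift (Ideal.Quotient.mk I a) hu').toAlgebra
  let _ : Algebra R K := ρ.toAlgebra
  have : IsScalarTower A R K := IsScalarTower.of_algebraMap_eq fun x =>
    (Ideal.Quotient.lift_mk I _ _).symm
  have : IsScalarTower R Rf K := IsScalarTower.of_algebraMap_eq fun x =>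
    (IsLocalization.Away.lift_eq (Ideal.Quotient.mk I a) hu' x).symm
  exact Module.Free.of_equiv
    (AlgebraTensorModule.cancelBaseChange R Rf K K (R ⊗[A] M) ≪≫ₗ
      AlgebraTensorModule.cancelBaseChange A R K K M)

/-- The Noetherian case. -/
theorem exists_generic_flattening_ideal_noeth (A : Type u) [CommRing A] [IsNoetherianRing A]
    [hA : (nilradical A).IsPrime] (B : Type u) [CommRing B] [Algebra A B] [Algebra.FiniteType A B]
    (M : Type u) [AddCommGroup M] [Module A M] [Module B M] [IsScalarTower A B M] [Module.Finite B M] :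
    ∃ (b : A) (_ : b ∉ nilradical A) (J : Ideal (Localization.Away b))
      (_ : J ≤ nilradical (Localization.Away b)),
      ∀ (A' : Type u) [CommRing A'] [Algebra A A'] [Algebra (Localization.Away b) A']
        [IsScalarTower A (Localization.Away b) A'],
        Module.Flat A' (A' ⊗[A] M) ↔ J.map (algebraMap (Localization.Away b) A') = ⊥ := by
  obtain ⟨b, hb, hfree⟩ := exists_notMem_free (A := A) M B (nilradical A) hA.isRadical hA.ne_top
  let A₁ := Localization.Away b
  let J₁ : Ideal A₁ := (nilradical A).map (algebraMap A A₁)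
  have hJ₁ : IsNilpotent J₁ := by
    obtain ⟨n, hn⟩ := IsNoetherianRing.isNilpotent_nilradical A
    exact ⟨n, by rw [← Ideal.map_pow, hn, Submodule.zero_eq_bot, Ideal.map_bot]; rfl⟩
  have hK : Module.Free (A₁ ⧸ J₁) ((A₁ ⧸ J₁) ⊗[A] M) := by
    refine hfree _ ?_ ?_
    · rw [IsScalarTower.algebraMap_eq A A₁ (A₁ ⧸ J₁), ← Ideal.map_map, Ideal.Quotient.algebraMap_eq,
        Ideal.map_quotient_self]
    · rw [IsScalarTower.algebraMap_apply A A₁ (A₁ ⧸ J₁)]
      exact (IsLocalization.Away.algebraMap_isUnit b).map _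
  have : Module.Free (A₁ ⧸ J₁) ((A₁ ⧸ J₁) ⊗[A₁] (A₁ ⊗[A] M)) :=
    Module.Free.of_equiv (AlgebraTensorModule.cancelBaseChange A A₁ (A₁ ⧸ J₁) (A₁ ⧸ J₁) M).symm
  obtain ⟨J₀, hJ₀, hiff⟩ := Groth.EGA43Flat.exists_flattening_ideal (M := A₁ ⊗[A] M) hJ₁
  refine ⟨b, hb, J₀, fun x hx => ?_, fun A' _ _ _ _ => ?_⟩
  · obtain ⟨n, hn⟩ := hJ₁
    refine mem_nilradical.2 ⟨n, ?_⟩
    have h1 := Ideal.pow_mem_pow (hJ₀ hx) n
    rwa [hn] at h1
  rw [← Module.Flat.equiv_iff (AlgebraTensorModule.cancelBaseChange A A₁ A' A' M), (hiff A').2]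

/-- The generic flattening ideal of a finitely presented module. -/
theorem exists_generic_flattening_ideal (R : Type u) [CommRing R] [hN : (nilradical R).IsPrime]
    (S : Type u) [CommRing S] [Algebra R S] [Algebra.FinitePresentation R S]
    (N : Type u) [AddCommGroup N] [Module R N] [Module S N] [IsScalarTower R S N]
    [Module.FinitePresentation S N] :
    ∃ (a : R) (_ : a ∉ nilradical R) (J : Ideal (Localization.Away a)) (_ : J.FG)
      (_ : J ≤ nilradical (Localization.Away a)),
      ∀ (A' : Type u) [CommRing A'] [Algebra R A'] [Algebra (Localization.Away a) A']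
        [IsScalarTower R (Localization.Away a) A'],
        Module.Flat A' (A' ⊗[R] N) ↔ J.map (algebraMap (Localization.Away a) A') = ⊥ := by
  obtain ⟨R₀, hR₀, S₀, _, _, _, _, hS₀, hpush, N₀, _, _, _, _, _, _, g, hN₀, hg⟩ := exists_models R S N
  have : IsNoetherianRing R₀ := Algebra.FiniteType.isNoetherianRing ℤ R₀
  have hcomap : nilradical R₀ = (nilradical R).comap (algebraMap R₀ R) := by
    ext x
    exact (IsNilpotent.map_iff (f := algebraMap R₀ R) Subtype.val_injective).symm
  have hprime : (nilradical R₀).IsPrime := hcomap ▸ hN.comap _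
  obtain ⟨b, hb, J₀, hJ₀, hiff⟩ :=
    exists_generic_flattening_ideal_noeth (A := R₀) (hA := hprime) S₀ N₀
  let A₁ := Localization.Away b
  let a : R := algebraMap R₀ R b
  have hub : IsUnit ((algebraMap R (Localization.Away a)).comp (algebraMap R₀ R) b) :=
    IsLocalization.Away.algebraMap_isUnit a
  let ν : A₁ →+* Localization.Away a := IsLocalization.Away.lift b hub
  refine ⟨a, fun h => hb (by rw [hcomap]; exact h), J₀.map ν,
    Ideal.FG.map (IsNoetherian.noetherian J₀) ν,
    Ideal.map_le_iff_le_comap.2 fun x hx => (mem_nilradical.1 (hJ₀ hx)).map ν,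
    fun A' _ _ _ _ => ?_⟩
  let e : R ⊗[R₀] N₀ ≃ₗ[R] N :=
    (Algebra.IsPushout.cancelBaseChange R₀ R S₀ S N₀).symm ≪≫ₗ hg.equiv.restrictScalars R
  have : IsScalarTower R₀ R A' := inferInstance
  let _ : Algebra A₁ A' := ((algebraMap (Localization.Away a) A').comp ν).toAlgebra
  have : IsScalarTower R₀ A₁ A' := IsScalarTower.of_algebraMap_eq fun x => by
    show algebraMap R A' (algebraMap R₀ R x) =
      algebraMap (Localization.Away a) A' (ν (algebraMap R₀ A₁ x))
    rw [IsLocalization.Away.lift_eq b hub x, RingHom.comp_apply, ← IsScalarTower.algebraMap_apply R (Localization.Away a) A']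
  rw [← Module.Flat.equiv_iff ((AlgebraTensorModule.cancelBaseChange R₀ R A' A' N₀).symm ≪≫ₗ
      LinearEquiv.baseChange R A' _ _ e), hiff A', Ideal.map_map]
  exact Iff.rfl

end Groth.EGA43Strat
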