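import Groth.Agent.FlatMorOne.FlatStratScheme
import Groth.Agent.QCohMod.PullbackSections

/-! Flatness of an affine base change in terms of sections. -/

set_option autoImplicit false
set_option linter.style.haveILetI false
universe u

open CategoryTheory CategoryTheory.Limits AlgebraicGeometry TensorProduct Groth.QCohMod Groth.Flatmor4

namespace Groth.EGA43Strat

variable {X S : Scheme.{u}} [IsAffine S] (f : X ⟶ S) (F : X.Modules) [F.IsQuasicoherent]

/-- Flatness above an affine open after an affine base change. -/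
theorem flat_baseChange_iff_sections {W : X.Opens} (hW : IsAffineOpen W) {T : Scheme.{u}} [IsAffine T]
    (g : T ⟶ S) :
    (letI := sectionModule f F (U := W) (V := ⊤) le_top
     letI := (g.appLE ⊤ ⊤ le_top).hom.toAlgebra
     Module.Flat Γ(T, ⊤) (Γ(T, ⊤) ⊗[Γ(S, ⊤)] Γ(F, W))) ↔
    ∀ x : ↥(pullback f g), pullback.fst f g x ∈ W → FlatMod.IsFlatOverAt (pullback.snd f g)
      ((Scheme.Modules.pullback (pullback.fst f g)).obj F) x := by
  let q := pullback.fst f g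
  let p := pullback.snd f g
  have H : IsPullback q p f g := IsPullback.of_hasPullback f g
  have eT : (⊤ : T.Opens) ≤ g ⁻¹ᵁ ⊤ := le_top
  have e : W ≤ f ⁻¹ᵁ ⊤ := le_top
  let W' := q ⁻¹ᵁ W ⊓ p ⁻¹ᵁ ⊤
  have hS : IsAffineOpen (⊤ : S.Opens) := isAffineOpen_top S
  have hT : IsAffineOpen (⊤ : T.Opens) := isAffineOpen_top T
  have : IsAffine _ := hS
  have : IsAffine _ := hT
  have : IsAffine _ := hW
  have hW' : IsAffineOpen W' :=
    .of_isIso (Scheme.Hom.isPullback_resLE H eT e (rfl : W' = _)).isoPullback.hom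
  have hpo := (isIso_pushoutSection_iff H eT e rfl).mp
    (isIso_pushoutSection_of_isAffineOpen H eT e rfl hS hT hW)
  have eWU : W' ≤ q ⁻¹ᵁ W := inf_le_left
  have eWV : W' ≤ p ⁻¹ᵁ ⊤ := inf_le_right
  let F' := (Scheme.Modules.pullback q).obj F
  haveI : F'.IsQuasicoherent := inferInstance
  letI := sectionModule f F e
  letI := (f.appLE ⊤ W e).hom.toAlgebra
  letI := (g.appLE ⊤ ⊤ eT).hom.toAlgebra
  letI := sectionsAlg q eWU
  letI := (p.appLE ⊤ W' eWV).hom.toAlgebra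
  letI : Algebra Γ(S, ⊤) Γ(pullback f g, W') :=
    ((q.appLE W W' eWU).hom.comp (f.appLE ⊤ W e).hom).toAlgebra
  haveI : IsScalarTower Γ(S, ⊤) Γ(X, W) Γ(pullback f g, W') := .of_algebraMap_eq' rfl
  haveI : IsScalarTower Γ(S, ⊤) Γ(T, ⊤) Γ(pullback f g, W') :=
    .of_algebraMap_eq fun a => congr($(hpo.w) a)
  haveI : Algebra.IsPushout Γ(S, ⊤) Γ(X, W) Γ(T, ⊤) Γ(pullback f g, W') :=
    CommRingCat.isPushout_iff_isPushout.mp hpo
  haveI : Algebra.IsPushout Γ(S, ⊤) Γ(T, ⊤) Γ(X, W) Γ(pullback f g, W') := .symm inferInstance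
  haveI : IsScalarTower Γ(S, ⊤) Γ(X, W) Γ(F, W) := .of_algebraMap_smul fun _ _ => rfl
  letI := sectionModule p F' eWV
  haveI : IsScalarTower Γ(T, ⊤) Γ(pullback f g, W') Γ(F', W') := .of_algebraMap_smul fun _ _ => rfl
  let Q := pullSecEquiv q F eWU hW hW'
  have h1 : Module.Flat Γ(T, ⊤) (Γ(T, ⊤) ⊗[Γ(S, ⊤)] Γ(F, W)) ↔ Module.Flat Γ(T, ⊤) Γ(F', W') :=
    Module.Flat.equiv_iff
      ((Algebra.IsPushout.cancelBaseChange Γ(S, ⊤) Γ(T, ⊤) Γ(X, W) Γ(pullback f g, W') Γ(F, W)).symm ≪≫ₗ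
        Q.restrictScalars Γ(T, ⊤))
  rw [h1, flat_sections_iff p F' hW' hT eWV]
  exact ⟨fun h x hx => h x ⟨hx, trivial⟩, fun h x hx => h x hx.1⟩

end Groth.EGA43Strat
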